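import Mathlib

/-!
# Semilocal Prüfer domains as finite intersections of valuation rings
-/

set_option autoImplicit false
universe u v

namespace Groth.Agent.PruferSLib

section Loc

variable {R : Type u} [CommRing R] [IsDomain R]

/-- A criterion for a localization at a prime to be a valuation ring. -/
theorem valuationRing_localization (p : Ideal R) [p.IsPrime]
    (h : ∀ a b : R, ∃ c d : R, d ∉ p ∧ (a * d = b * c ∨ b * d = a * c)) :
    ValuationRing (Localization.AtPrime p) := by
  refine @ValuationRing.mk _ _ _ ⟨fun x y => ?_⟩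
  obtain ⟨⟨a, s⟩, rfl⟩ := IsLocalization.mk'_surjective p.primeCompl x
  obtain ⟨⟨b, t⟩, rfl⟩ := IsLocalization.mk'_surjective p.primeCompl y
  obtain ⟨c, d, hd, hcd⟩ := h (a * t) (b * s)
  refine ⟨IsLocalization.mk' (Localization.AtPrime p) c (⟨d, hd⟩ : p.primeCompl), hcd.symm.imp (fun h1 => ?_) fun h1 => ?_⟩
  all_goals
    rw [← IsLocalization.mk'_mul, IsLocalization.mk'_eq_iff_eq]
    refine congrArg _ ?_
    simp only [Submonoid.coe_mul]
    linear_combination -h1

theorem exists_of_valuationRing (p : Ideal R) [p.IsPrime] (h : ValuationRing (Localization.AtPrime p)) (a b : R) :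
    ∃ c d : R, d ∉ p ∧ (a * d = b * c ∨ b * d = a * c) := by
  obtain ⟨z, hz⟩ := ValuationRing.cond (algebraMap R (Localization.AtPrime p) a) (algebraMap R _ b)
  obtain ⟨⟨c, ⟨d, hd⟩⟩, rfl⟩ := IsLocalization.mk'_surjective p.primeCompl z
  have hinj : Function.Injective (algebraMap R (Localization.AtPrime p)) :=
    IsLocalization.injective _ p.primeCompl_le_nonZeroDivisors
  refine ⟨c, d, hd, hz.symm.imp (fun h1 => ?_) fun h1 => ?_⟩
  all_goals
    rw [IsLocalization.mul_mk'_eq_mk'_of_mul, IsLocalization.mk'_eq_iff_eq_mul, ← map_mul] at h1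
    exact (hinj h1).symm

variable (R) (L : Type v) [Field L] [Algebra R L] [IsFractionRing R L]

/-- The valuation subring of the fraction field at a prime of a Prüfer domain. -/
noncomputable def locVS (p : Ideal R) [hp : p.IsPrime] (h : ValuationRing (Localization.AtPrime p)) : ValuationSubring L where
  carrier := {x | ∃ a b : R, b ∉ p ∧ x * algebraMap R L b = algebraMap R L a}
  zero_mem' := ⟨0, 1, p.primeCompl.one_mem, by simp⟩
  one_mem' := ⟨1, 1, p.primeCompl.one_mem, by simp⟩
  add_mem' := by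
    rintro x y ⟨a, b, hb, hx⟩ ⟨a', b', hb', hy⟩
    exact ⟨a * b' + a' * b, b * b', p.primeCompl.mul_mem hb hb', by simp only [map_add, map_mul, ← hx, ← hy]; ring⟩
  mul_mem' := by
    rintro x y ⟨a, b, hb, hx⟩ ⟨a', b', hb', hy⟩
    exact ⟨a * a', b * b', p.primeCompl.mul_mem hb hb', by simp only [map_mul, ← hx, ← hy]; ring⟩
  neg_mem' := by
    rintro x ⟨a, b, hb, hx⟩
    exact ⟨-a, b, hb, by simp [← hx]⟩
  mem_or_inv_mem' := fun x => by
    obtain ⟨a, b, hb0, rfl⟩ := IsFractionRing.div_surjective (A := R) x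
    have hbne : algebraMap R L b ≠ 0 := IsFractionRing.to_map_ne_zero_of_mem_nonZeroDivisors hb0
    obtain ⟨c, d, hd, hcd | hcd⟩ := exists_of_valuationRing p h a b
    · refine Or.inl ⟨c, d, hd, ?_⟩
      rw [div_mul_eq_mul_div, div_eq_iff hbne, ← map_mul, ← map_mul, hcd, mul_comm]
    · refine Or.inr ⟨c, d, hd, ?_⟩
      by_cases ha : algebraMap R L a = 0
      · have h0 := congrArg (algebraMap R L) hcd
        rw [map_mul, map_mul, ha, zero_mul] at h0
        exact absurd h0 (mul_ne_zero hbne ((map_ne_zero_iff _ (IsFractionRing.injective R L)).2 fun e => hd (e ▸ p.zero_mem)))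
      · rw [inv_div, div_mul_eq_mul_div, div_eq_iff ha, ← map_mul, ← map_mul, hcd, mul_comm]

theorem mem_locVS (p : Ideal R) [p.IsPrime] (h : ValuationRing (Localization.AtPrime p)) (x : L) :
    x ∈ locVS R L p h ↔ ∃ a b : R, b ∉ p ∧ x * algebraMap R L b = algebraMap R L a := Iff.rfl

/-- A domain is the intersection of its local rings at maximal ideals. -/
theorem mem_range_of_forall (hR : ∀ (p : Ideal R) [p.IsPrime], ValuationRing (Localization.AtPrime p)) (x : L)
    (hx : ∀ m : MaximalSpectrum R, haveI := m.isMaximal.isPrime; x ∈ locVS R L m.asIdeal (hR _)) :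
    ∃ r : R, algebraMap R L r = x := by
  let D : Ideal R :=
    { carrier := {r | ∃ a : R, x * algebraMap R L r = algebraMap R L a}
      zero_mem' := ⟨0, by simp⟩
      add_mem' := fun {u v} ⟨a, ha⟩ ⟨b, hb⟩ => ⟨a + b, by rw [map_add, map_add, mul_add, ha, hb]⟩
      smul_mem' := fun c u ⟨a, ha⟩ => ⟨c * a, by rw [smul_eq_mul, map_mul, map_mul, ← ha]; ring⟩ }
  have hD : D = ⊤ := by
    by_contra hne
    obtain ⟨m, hm, hle⟩ := Ideal.exists_le_maximal D hne
    haveI := hm.isPrime
    obtain ⟨a, b, hb, hab⟩ := (mem_locVS R L m (hR m) x).1 (hx ⟨m, hm⟩)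
    exact hb (hle ⟨a, hab⟩)
  obtain ⟨a, ha⟩ : (1 : R) ∈ D := hD ▸ Submodule.mem_top
  exact ⟨a, by rw [← ha, map_one, mul_one]⟩

end Loc

section Inter

variable {L : Type v} [Field L] {ι : Type*} [Finite ι] (V : ι → ValuationSubring L)

theorem geom_sum_ne_zero {F : Type*} [Field F] (y : F) {s : ℕ} (hs : s.Prime) (h1 : orderOf y ≠ s)
    (h2 : ringChar F ≠ s) : ∑ k ∈ Finset.range s, y ^ k ≠ 0 := by
  intro h
  by_cases hy : y = 1
  · rw [hy] at h
    simp only [one_pow, Finset.sum_const, Finset.card_range, nsmul_eq_mul, mul_one] at h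
    rcases (Nat.dvd_prime hs).1 (ringChar.dvd h) with hd | hd
    · exact CharP.ringChar_ne_one hd
    · exact h2 hd
  · have h3 := geom_sum_mul y s
    rw [h, zero_mul, eq_comm, sub_eq_zero] at h3
    rcases (Nat.dvd_prime hs).1 (orderOf_dvd_of_pow_eq_one h3) with hd | hd
    · exact hy (orderOf_eq_one_iff.1 hd)
    · exact h1 hd

/-- Nagata's trick: `x` and `1/f(x)` for a suitable cyclotomic-like `f`. -/
theorem exists_multiplier (x : L) :
    ∃ s : ℕ, 2 ≤ s ∧ ∑ k ∈ Finset.range s, x ^ k ≠ 0 ∧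
      ∀ i, ∀ k < s, x ^ k / ∑ k ∈ Finset.range s, x ^ k ∈ V i := by
  classical
  let y : ∀ i, IsLocalRing.ResidueField (V i) := fun i =>
    if h : x ∈ V i then IsLocalRing.residue (V i) ⟨x, h⟩ else 1
  haveI := Fintype.ofFinite ι
  obtain ⟨s, hsB, hs⟩ := Nat.exists_infinite_primes
    (orderOf x + ringChar L + ∑ i, (orderOf (y i) + ringChar (IsLocalRing.ResidueField (V i))) + 1)
  have hi : ∀ i, orderOf (y i) + ringChar (IsLocalRing.ResidueField (V i)) < s := fun i =>
    lt_of_le_of_lt (Finset.single_le_sum (f := fun i => orderOf (y i) + ringChar (IsLocalRing.ResidueField (V i)))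
      (fun _ _ => Nat.zero_le _) (Finset.mem_univ i)) (by omega)
  have hS0 : ∑ k ∈ Finset.range s, x ^ k ≠ 0 := geom_sum_ne_zero x hs (by omega) (by omega)
  refine ⟨s, hs.two_le, hS0, fun i k hk => ?_⟩
  rw [← ValuationSubring.valuation_le_one_iff, map_div₀, map_pow]
  by_cases hx : x ∈ V i
  · have hu : (V i).valuation (∑ k ∈ Finset.range s, x ^ k) = 1 := by
      have h1 : IsUnit (∑ k ∈ Finset.range s, (⟨x, hx⟩ : V i) ^ k) := by
        rw [← IsLocalRing.residue_ne_zero_iff_isUnit, map_sum]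
        simp only [map_pow]
        have := hi i
        have hy : y i = IsLocalRing.residue (V i) ⟨x, hx⟩ := dif_pos hx
        rw [hy] at this
        exact geom_sum_ne_zero _ hs (by omega) (by omega)
      have h2 := ((V i).valuation_eq_one_iff _).1 h1
      simpa using h2
    rw [hu, div_one]
    exact pow_le_one₀ zero_le' (((V i).valuation_le_one_iff x).2 hx)
  · have hv : 1 < (V i).valuation x := not_le.1 fun h => hx (((V i).valuation_le_one_iff x).1 h)
    have hu : (V i).valuation (∑ k ∈ Finset.range s, x ^ k) = (V i).valuation x ^ (s - 1) := by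
      rw [Valuation.map_sum_eq_of_lt (v := (V i).valuation) (j := s - 1)
        (Finset.mem_range.2 (by omega)) fun l hl => ?_, map_pow]
      simp only [Finset.mem_sdiff, Finset.mem_range, Finset.mem_singleton] at hl
      rw [map_pow, map_pow]
      exact pow_lt_pow_right₀ hv (by omega)
    rw [hu, div_le_one₀ (pow_pos (lt_trans zero_lt_one hv) _)]
    exact pow_le_pow_right₀ hv.le (by omega)

/-- A ring which is a finite intersection of valuation rings with a subfield is a semilocal Prüfer domain. -/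
theorem prufer_of_inter {S : Type u} [CommRing S] [IsDomain S] (f : S →+* L) (hf : Function.Injective f) (K : Subfield L)
    (hS : ∀ x, (∃ a, f a = x) ↔ x ∈ K ∧ ∀ i, x ∈ V i) :
    (∀ (p : Ideal S) [p.IsPrime], ValuationRing (Localization.AtPrime p)) ∧ Finite (MaximalSpectrum S) ∧
      ∀ x ∈ K, ∃ a b : S, b ≠ 0 ∧ x * f b = f a := by
  classical
  have hK : ∀ a, f a ∈ K := fun a => ((hS _).1 ⟨a, rfl⟩).1
  have hV : ∀ a i, f a ∈ V i := fun a => ((hS _).1 ⟨a, rfl⟩).2
  have key : ∀ x ∈ K, ∃ s, 2 ≤ s ∧ ∃ g : ℕ → S, (∀ k < s, f (g k) = x ^ k * f (g 0)) ∧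
      ∑ k ∈ Finset.range s, g k = 1 := by
    intro x hx
    obtain ⟨s, hs, hne, hmem⟩ := exists_multiplier V x
    choose g hg using fun k : Fin s => (hS _).2 ⟨K.div_mem (K.pow_mem hx k) (K.sum_mem fun j _ => K.pow_mem hx j),
      fun i => hmem i k k.2⟩
    let g' : ℕ → S := fun k => if h : k < s then g ⟨k, h⟩ else 0
    have hg' : ∀ k < s, f (g' k) = x ^ k / ∑ k ∈ Finset.range s, x ^ k := fun k hk => by
      simp only [g', dif_pos hk]; exact hg ⟨k, hk⟩
    refine ⟨s, hs, g', fun k hk => ?_, hf ?_⟩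
    · rw [hg' k hk, hg' 0 (by omega), pow_zero, mul_one_div]
    · rw [map_sum, map_one, Finset.sum_congr rfl fun k hk => hg' k (Finset.mem_range.1 hk), ← Finset.sum_div,
        div_self hne]
  refine ⟨fun p _ => valuationRing_localization p fun a b => ?_, ?_, fun x hx => ?_⟩
  · by_cases hb : b = 0
    · exact ⟨0, 1, p.primeCompl.one_mem, Or.inr (by simp [hb])⟩
    have hfb : f b ≠ 0 := (map_ne_zero_iff f hf).2 hb
    obtain ⟨s, hs, g, hg, hsum⟩ := key (f a / f b) (K.div_mem (hK a) (hK b))
    have hg1 : ∀ k, k + 1 < s → g k * a = g (k + 1) * b := fun k hk => hf (by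
      rw [map_mul, map_mul, hg k (by omega), hg (k + 1) hk, pow_succ]
      field_simp)
    by_cases h0 : g 0 ∈ p
    · obtain ⟨k, hk, hkp⟩ : ∃ k < s, g k ∉ p := by
        by_contra hno
        push Not at hno
        exact (‹p.IsPrime›.ne_top) ((Ideal.eq_top_iff_one p).2 (hsum ▸ p.sum_mem fun k hk => hno k (Finset.mem_range.1 hk)))
      obtain ⟨k, rfl⟩ : ∃ j, k = j + 1 := ⟨k - 1, by
        have : k ≠ 0 := fun h => hkp (h ▸ h0)
        omega⟩
      exact ⟨g k, g (k + 1), hkp, Or.inr (by rw [mul_comm b, ← hg1 k hk, mul_comm])⟩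
    · exact ⟨g 1, g 0, h0, Or.inl (by rw [mul_comm a, hg1 0 (by omega), mul_comm])⟩
  · let c : ι → Ideal S := fun i =>
      Ideal.comap (f.codRestrict (V i).toSubring fun a => hV a i) (IsLocalRing.maximalIdeal (V i))
    have hcov : ∀ m : MaximalSpectrum S, m.asIdeal = ⊥ ∨ ∃ i, c i = m.asIdeal := by
      intro m
      refine or_iff_not_imp_left.2 fun hm0 => ?_
      haveI := Fintype.ofFinite ι
      have hsub : (m.asIdeal : Set S) ⊆ ⋃ i ∈ (↑(Finset.univ : Finset ι) : Set ι), (c i : Set S) := by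
        intro a ha
        by_contra hno
        simp only [Finset.coe_univ, Set.mem_univ, Set.iUnion_true, Set.mem_iUnion, not_exists] at hno
        have ha0 : a ≠ 0 := fun h => by
          obtain ⟨b, hb, hb0⟩ := Submodule.exists_mem_ne_zero_of_ne_bot hm0
          rcases isEmpty_or_nonempty ι with hι | ⟨⟨i⟩⟩
          · obtain ⟨e, he⟩ := (hS (f b)⁻¹).2 ⟨K.inv_mem (hK b), fun i => isEmptyElim i⟩
            have h1 : e * b = 1 := hf (by rw [map_mul, he, map_one, inv_mul_cancel₀ ((map_ne_zero_iff f hf).2 hb0)])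
            exact m.isMaximal.ne_top ((Ideal.eq_top_iff_one _).2 (h1 ▸ m.asIdeal.mul_mem_left e hb))
          · exact hno i (h ▸ (c i).zero_mem)
        have hunit : ∀ i, (f a)⁻¹ ∈ V i := fun i => by
          rw [← ValuationSubring.valuation_le_one_iff, map_inv₀]
          have h1 : IsUnit (⟨f a, hV a i⟩ : V i) := by
            by_contra hnu
            exact hno i hnu
          rw [((V i).valuation_eq_one_iff _).1 h1, inv_one]
        obtain ⟨e, he⟩ := (hS (f a)⁻¹).2 ⟨K.inv_mem (hK a), hunit⟩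
        have h1 : e * a = 1 := hf (by rw [map_mul, he, map_one, inv_mul_cancel₀ ((map_ne_zero_iff f hf).2 ha0)])
        exact m.isMaximal.ne_top ((Ideal.eq_top_iff_one _).2 (h1 ▸ m.asIdeal.mul_mem_left e ha))
      rcases isEmpty_or_nonempty ι with hι | ⟨⟨i₀⟩⟩
      · have h := hsub m.asIdeal.zero_mem
        simp at h
      obtain ⟨i, -, hle⟩ := (Ideal.subset_union_prime (f := c) i₀ i₀ fun i _ _ _ => Ideal.IsPrime.comap _).1 hsub
      exact ⟨i, (m.isMaximal.eq_of_le (Ideal.IsPrime.comap _).ne_top hle).symm⟩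
    refine Finite.of_injective (fun m : MaximalSpectrum S => if h : m.asIdeal = ⊥ then none else
      some ((hcov m).resolve_left h).choose) fun m m' h => MaximalSpectrum.ext ?_
    dsimp only at h
    by_cases hm : m.asIdeal = ⊥ <;> by_cases hm' : m'.asIdeal = ⊥
    · rw [hm, hm']
    · rw [dif_pos hm, dif_neg hm'] at h; exact absurd h (Option.some_ne_none _).symm
    · rw [dif_neg hm, dif_pos hm'] at h; exact absurd h (Option.some_ne_none _)
    · rw [dif_neg hm, dif_neg hm'] at h
      rw [← ((hcov m).resolve_left hm).choose_spec, ← ((hcov m').resolve_left hm').choose_spec, Option.some_inj.1 h]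
  · obtain ⟨s, hs, g, hg, hsum⟩ := key x hx
    refine ⟨g 1, g 0, fun h0 => ?_, by rw [hg 1 (by omega), pow_one]⟩
    have : ∀ k < s, g k = 0 := fun k hk => hf (by rw [hg k hk, h0, map_zero, mul_zero])
    rw [Finset.sum_eq_zero fun k hk => this k (Finset.mem_range.1 hk)] at hsum
    exact zero_ne_one hsum

end Inter

section Rank

variable {R : Type u} [CommRing R] [IsDomain R] {K : Type v} [Field K] [Algebra R K] [IsFractionRing R K]
  {B : Type} [CommRing B] [Algebra B K]

/-- Products of elements from distinct steps of a chain of primes are distinguished by any valuation. -/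
theorem exps_eq {m : ℕ} (W : ValuationSubring K) (p : Ideal R) [p.IsPrime]
    (hW : ∀ x, x ∈ W ↔ ∃ a b : R, b ∉ p ∧ x * algebraMap R K b = algebraMap R K a)
    (P : Fin (m + 1) → Ideal R) (hP : ∀ i, (P i).IsPrime) (hmono : Monotone P) (hle : ∀ i, P i ≤ p)
    (t : Fin m → R) (ht : ∀ i, t i ∈ P i.succ) (ht' : ∀ i, t i ∉ P i.castSucc)
    (e e' : Fin m → ℕ) (heq : W.valuation (algebraMap R K (∏ i, t i ^ e i)) = W.valuation (algebraMap R K (∏ i, t i ^ e' i))) :
    e = e' := by
  classical
  by_contra hne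
  have hne' : (Finset.univ.filter fun i => e i ≠ e' i).Nonempty := by
    obtain ⟨i, hi⟩ := Function.ne_iff.1 hne
    exact ⟨i, by simpa using hi⟩
  let i := (Finset.univ.filter fun i => e i ≠ e' i).min' hne'
  have hi : e i ≠ e' i := (Finset.mem_filter.1 (Finset.min'_mem _ hne')).2
  have hlt : ∀ l, l < i → e l = e' l := fun l hl => by
    by_contra h
    exact absurd (Finset.min'_le _ l (by simpa using h)) (not_le.2 hl)
  have main : ∀ e e' : Fin m → ℕ, (∀ l, l < i → e l = e' l) → e' i < e i →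
      W.valuation (algebraMap R K (∏ l, t l ^ e l)) = W.valuation (algebraMap R K (∏ l, t l ^ e' l)) → False := by
    intro e e' hlt hgt heq
    obtain ⟨⟨w, hw⟩, hwe⟩ := (ValuationSubring.valuation_le_iff W _ _).1 heq.ge
    obtain ⟨a, b, hb, hab⟩ := (hW w).1 hw
    have h1 : (∏ l, t l ^ e' l) * b = (∏ l, t l ^ e l) * a := IsFractionRing.injective R K (by
      simp only [map_mul]
      rw [← hwe, ← hab]
      ring)
    have ht0 : ∀ l, t l ≠ 0 := fun l h => ht' l (h ▸ (P l.castSucc).zero_mem)
    have hsplit : ∀ d : Fin m → ℕ, ∏ l, t l ^ d l =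
        (∏ l ∈ Finset.univ.filter (· < i), t l ^ d l) * (t i ^ d i * ∏ l ∈ Finset.univ.filter (i < ·), t l ^ d l) := by
      intro d
      rw [← Finset.prod_filter_mul_prod_filter_not Finset.univ (· < i)]
      congr 1
      rw [show Finset.univ.filter (fun l => ¬ l < i) = insert i (Finset.univ.filter (i < ·)) by
        ext l; simp [le_iff_eq_or_lt, eq_comm], Finset.prod_insert (by simp)]
    rw [hsplit e, hsplit e', Finset.prod_congr rfl (g := fun l => t l ^ e l) (fun l hl => by
      rw [hlt l (Finset.mem_filter.1 hl).2])] at h1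
    simp only [mul_assoc] at h1
    have h2 := mul_left_cancel₀ (Finset.prod_ne_zero_iff.2 fun l _ => pow_ne_zero _ (ht0 l)) h1
    obtain ⟨d, hd⟩ : ∃ d, e i = e' i + (d + 1) := ⟨e i - e' i - 1, by omega⟩
    rw [hd, pow_add] at h2
    simp only [mul_assoc] at h2
    have h3 := mul_left_cancel₀ (pow_ne_zero _ (ht0 i)) h2
    haveI := hP i.succ
    have h4 : (∏ l ∈ Finset.univ.filter (i < ·), t l ^ e' l) * b ∈ P i.succ := by
      rw [h3, pow_succ, mul_comm (t i ^ d), mul_assoc]
      exact Ideal.mul_mem_right _ _ (ht i)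
    rcases (hP i.succ).mem_or_mem h4 with h5 | h5
    · obtain ⟨l, hl, h6⟩ := (Ideal.IsPrime.prod_mem_iff (p := P i.succ)).1 h5
      have h7 := (hP i.succ).mem_of_pow_mem _ h6
      refine ht' l (hmono ?_ h7)
      have := (Finset.mem_filter.1 hl).2
      exact Nat.succ_le_of_lt this
    · exact hb (hle _ h5)
  rcases lt_or_gt_of_ne hi with h | h
  · exact main e' e (fun l hl => (hlt l hl).symm) h heq.symm
  · exact main e e' hlt h heq

/-- Chains of primes in a Prüfer domain are short when the fraction field is small. -/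
theorem algebraicIndependent_of_chain {m : ℕ} (W : ValuationSubring K) (p : Ideal R) [p.IsPrime]
    (hW : ∀ x, x ∈ W ↔ ∃ a b : R, b ∉ p ∧ x * algebraMap R K b = algebraMap R K a)
    (P : Fin (m + 1) → Ideal R) (hP : ∀ i, (P i).IsPrime) (hmono : Monotone P) (hle : ∀ i, P i ≤ p)
    (t : Fin m → R) (ht : ∀ i, t i ∈ P i.succ) (ht' : ∀ i, t i ∉ P i.castSucc)
    (J : Set (Fin m)) (j : Option (Fin m)) (hJ : ∀ i ∈ J, j ≠ some i)
    (hB : ∀ c : B, c ≠ 0 → ∃ k : ℕ, W.valuation (algebraMap B K c) =
      W.valuation (algebraMap R K (j.elim 1 fun i => t i ^ k))) :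
    AlgebraicIndependent B fun i : J => algebraMap R K (t i) := by
  classical
  rw [algebraicIndependent_iff]
  intro f hf
  by_contra hne
  choose k hk using fun d : {d // d ∈ f.support} => hB (f.coeff d.1) (MvPolynomial.mem_support_iff.1 d.2)
  let E : {d // d ∈ f.support} → Fin m → ℕ := fun d i =>
    (if h : i ∈ J then d.1 ⟨i, h⟩ else 0) + (if j = some i then k d else 0)
  have hval : ∀ d : {d // d ∈ f.support},
      W.valuation (algebraMap B K (f.coeff d.1) * ∏ i : J, algebraMap R K (t i) ^ d.1 i) =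
        W.valuation (algebraMap R K (∏ i, t i ^ E d i)) := by
    intro d
    rw [map_mul, hk d, ← map_mul]
    refine congrArg _ ?_
    simp only [E, pow_add, Finset.prod_mul_distrib]
    rw [map_mul, mul_comm (algebraMap R K (∏ x, t x ^ (if h : x ∈ J then d.1 ⟨x, h⟩ else 0)))]
    congr 1
    · refine congrArg _ ?_
      cases j with
      | none => simp
      | some l => simp [pow_ite]
    · rw [map_prod]
      have h1 : ∏ i ∈ Finset.univ.filter (· ∈ J), algebraMap R K (t i ^ (if h : i ∈ J then d.1 ⟨i, h⟩ else 0)) =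
          ∏ i : J, algebraMap R K (t i ^ (if h : (i : Fin m) ∈ J then d.1 ⟨i, h⟩ else 0)) :=
        Finset.prod_subtype (p := fun i => i ∈ J) (Finset.univ.filter (· ∈ J)) (fun i => by simp) _
      refine Eq.trans ?_ (Finset.prod_subset (Finset.filter_subset (· ∈ J) _) fun i _ hi => by
        have : i ∉ J := by simpa using hi
        simp [this])
      rw [h1]
      exact Finset.prod_congr rfl fun i _ => by rw [dif_pos i.2, map_pow]
  have hinj : Function.Injective fun d : {d // d ∈ f.support} =>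
      W.valuation (algebraMap B K (f.coeff d.1) * ∏ i : J, algebraMap R K (t i) ^ d.1 i) := fun d d' h => by
    simp only [hval] at h
    have h1 := exps_eq W p hW P hP hmono hle t ht ht' _ _ h
    refine Subtype.ext (Finsupp.ext fun ⟨i, hi⟩ => ?_)
    have h2 := congrFun h1 i
    simpa [E, hi, hJ i hi] using h2
  obtain ⟨d₀, -, hmax⟩ := Finset.exists_max_image (Finset.univ : Finset {d // d ∈ f.support})
    (fun d => W.valuation (algebraMap B K (f.coeff d.1) * ∏ i : J, algebraMap R K (t i) ^ d.1 i))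
    (by
      obtain ⟨d, hd⟩ := MvPolynomial.support_nonempty.2 hne
      exact ⟨⟨d, hd⟩, Finset.mem_univ _⟩)
  have hsum : MvPolynomial.aeval (fun i : J => algebraMap R K (t i)) f =
      ∑ d : {d // d ∈ f.support}, algebraMap B K (f.coeff d.1) * ∏ i : J, algebraMap R K (t i) ^ d.1 i := by
    rw [MvPolynomial.aeval_def, MvPolynomial.eval₂_eq', Finset.univ_eq_attach, Finset.sum_attach f.support
      (fun d => algebraMap B K (f.coeff d) * ∏ i : J, algebraMap R K (t i) ^ d i)]
  have hv := Valuation.map_sum_eq_of_lt (v := W.valuation) (Finset.mem_univ d₀)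
    (f := fun d : {d // d ∈ f.support} => algebraMap B K (f.coeff d.1) * ∏ i : J, algebraMap R K (t i) ^ d.1 i)
    fun d hd => lt_of_le_of_ne (hmax d (Finset.mem_univ d)) fun h => (Finset.mem_sdiff.1 hd).2
      (Finset.mem_singleton.2 (hinj h))
  rw [← hsum, hf, map_zero, hval] at hv
  have h0 := (map_eq_zero W.valuation).1 hv.symm
  rw [map_eq_zero_iff _ (IsFractionRing.injective R K), Finset.prod_eq_zero_iff] at h0
  obtain ⟨i, -, hi⟩ := h0
  exact ht' i (((pow_eq_zero_iff').1 hi).1 ▸ (P i.castSucc).zero_mem)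

end Rank

end Groth.Agent.PruferSLib
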